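import Cfsg.Agent.Lib.Helper11.He2058.D0
import Cfsg.Agent.Lib.Helper11.Words

set_option autoImplicit false
set_option maxRecDepth 100000

namespace Cfsg.Agent.Lib.Helper11.He2058

noncomputable def fc1_0 (i : ℕ) : ℕ := (Bool.rec (Bool.rec (Bool.rec (fc0_0 i) (fc0_1 i) (Nat.ble 16 i)) (Bool.rec (fc0_2 i) (fc0_3 i) (Nat.ble 48 i)) (Nat.ble 32 i)) (Bool.rec (Bool.rec (fc0_4 i) (fc0_5 i) (Nat.ble 80 i)) (Bool.rec (fc0_6 i) (Bool.rec (fc0_7 i) (fc0_8 i) (Nat.ble 128 i)) (Nat.ble 112 i)) (Nat.ble 96 i)) (Nat.ble 64 i))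
noncomputable def fc (i : ℕ) : ℕ := fc1_0 i
noncomputable def sc1_0 (i : ℕ) : ℕ := (Bool.rec (Bool.rec (Bool.rec (sc0_0 i) (sc0_1 i) (Nat.ble 16 i)) (Bool.rec (sc0_2 i) (sc0_3 i) (Nat.ble 48 i)) (Nat.ble 32 i)) (Bool.rec (Bool.rec (sc0_4 i) (sc0_5 i) (Nat.ble 80 i)) (Bool.rec (sc0_6 i) (Bool.rec (sc0_7 i) (sc0_8 i) (Nat.ble 128 i)) (Nat.ble 112 i)) (Nat.ble 96 i)) (Nat.ble 64 i))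
noncomputable def sc (i : ℕ) : ℕ := sc1_0 i
noncomputable def nc (i : ℕ) : ℕ := nc0_0 i
noncomputable def cc1_0 (i : ℕ) : ℕ := (Bool.rec (Bool.rec (cc0_0 i) (cc0_1 i) (Nat.ble 16 i)) (Bool.rec (cc0_2 i) (Bool.rec (cc0_3 i) (cc0_4 i) (Nat.ble 64 i)) (Nat.ble 48 i)) (Nat.ble 32 i))
noncomputable def cc (i : ℕ) : ℕ := cc1_0 i

noncomputable def INV : ℕ := 372964486878955552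
def isH (l : ℕ) : Bool := decide (l ∈ [1, 3, 4, 5, 6, 8, 10])
def gens : List ℕ := [1, 2, 3, 4, 5, 6, 7]
def rt : RT := (.node 13 (.node 6 (.node 3 (.node 2 (.node 1 (.leaf 4 0 [4, 4]) (.leaf 7 0 [7, 7])) (.leaf 3 0 [3, 3])) (.node 5 (.node 4 (.leaf 6 0 [6, 6]) (.leaf 5 0 [5, 5])) (.leaf 18 0 [2, 4, 2, 4]))) (.node 10 (.node 8 (.node 7 (.leaf 11 0 [1, 4, 1, 4]) (.leaf 41 0 [5, 6, 5, 6])) (.node 9 (.leaf 28 0 [3, 7, 3, 7]) (.leaf 2 0 [2, 2]))) (.node 12 (.node 11 (.leaf 27 0 [3, 6, 3, 6]) (.leaf 0 0 [])) (.leaf 20 0 [2, 6, 2, 6])))) (.node 24 (.node 18 (.node 16 (.node 15 (.node 14 (.leaf 21 0 [2, 7, 2, 7]) (.leaf 42 0 [5, 7, 5, 7])) (.leaf 13 0 [1, 6, 1, 6])) (.node 17 (.leaf 57 2 [6, 7, 6, 5, 7]) (.leaf 14 0 [1, 7, 1, 7]))) (.node 21 (.node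 20 (.node 19 (.leaf 57 3 [7, 6, 5, 7, 6]) (.leaf 26 0 [3, 5, 3, 5])) (.leaf 1 0 [1, 1])) (.node 23 (.node 22 (.leaf 35 1 [7, 4, 7, 4, 7, 4]) (.leaf 34 1 [6, 4, 6, 4, 6, 4])) (.leaf 19 0 [2, 5, 2, 5])))) (.node 33 (.node 28 (.node 26 (.node 25 (.leaf 12 0 [1, 5, 1, 5]) (.leaf 10 0 [1, 3, 1, 3])) (.node 27 (.leaf 33 1 [5, 4, 5, 4, 5, 4]) (.leaf 33 0 [4, 5, 4, 5, 4, 5]))) (.node 31 (.node 30 (.node 29 (.leaf 35 0 [4, 7, 4, 7, 4, 7]) (.leaf 34 0 [4, 6, 4, 6, 4, 6])) (.leaf 27 1 [6, 3, 6, 3])) (.node 32 (.leaf 42 1 [7, 5, 7, 5]) (.leaf 17 1 [3, 2, 3, 2, 3, 2])))) (.node 42 (.node 37 (.node 35 (.node 34 (.leaf 41 1 [6, 5, 6, 5]) (.leaf 28 1 [7, 3, 7, 3])) (.node 36 (.leaf 59 2 [3, 4, 3, 4, 3, 4, 3, 4, 3, 1, 4]) (.leaf 26 1 [5, 3, 5, 3]))) (.node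 40 (.node 39 (.node 38 (.leaf 59 3 [4, 3, 4, 3, 4, 3, 4, 3, 1, 4, 3]) (.leaf 21 1 [7, 2, 7, 2])) (.leaf 20 1 [6, 2, 6, 2])) (.node 41 (.leaf 17 0 [2, 3, 2, 3, 2, 3]) (.leaf 19 1 [5, 2, 5, 2])))) (.node 50 (.node 46 (.node 44 (.node 43 (.leaf 18 1 [4, 2, 4, 2]) (.leaf 57 1 [7, 6, 7, 6, 5])) (.node 45 (.leaf 60 1 [4, 6, 7, 3, 4, 6, 7, 3, 4, 6, 7, 3, 4, 6, 7, 3]) (.leaf 60 3 [7, 3, 4, 6, 7, 3, 4, 6, 7, 3, 4, 6, 7, 3, 4, 6]))) (.node 48 (.node 47 (.leaf 58 2 [2, 1, 3, 2, 1, 3, 2, 1, 5, 3]) (.leaf 58 0 [5, 3, 2, 1, 3, 2, 1, 3, 2, 1])) (.node 49 (.leaf 10 1 [3, 1, 3, 1]) (.leaf 60 0 [3, 4, 6, 7, 3, 4, 6, 7, 3, 4, 6, 7, 3, 4, 6, 7])))) (.node 57 (.node 53 (.node 52 (.node 51 (.leaf 57 4 [6, 5, 7, 6, 7]) (.leaf 11 1 [4, 1, 4, 1])) (.leaf 57 0 [5,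 7, 6, 7, 6])) (.node 55 (.node 54 (.leaf 60 2 [6, 7, 3, 4, 6, 7, 3, 4, 6, 7, 3, 4, 6, 7, 3, 4]) (.leaf 58 3 [1, 3, 2, 1, 3, 2, 1, 5, 3, 2])) (.node 56 (.leaf 14 1 [7, 1, 7, 1]) (.leaf 12 1 [5, 1, 5, 1])))) (.node 63 (.node 60 (.node 59 (.node 58 (.leaf 58 9 [1, 5, 3, 2, 1, 3, 2, 1, 3, 2]) (.leaf 13 1 [6, 1, 6, 1])) (.leaf 59 1 [4, 3, 4, 3, 4, 3, 4, 3, 4, 3, 1])) (.node 62 (.node 61 (.leaf 9 1 [2, 1, 2, 1, 2, 1, 2, 1]) (.leaf 59 4 [3, 4, 3, 4, 3, 4, 3, 1, 4, 3, 4])) (.leaf 9 0 [1, 2, 1, 2, 1, 2, 1, 2]))) (.node 69 (.node 66 (.node 65 (.node 64 (.leaf 59 8 [3, 4, 3, 1, 4, 3, 4, 3, 4, 3, 4]) (.leaf 59 9 [4, 3, 1, 4, 3, 4, 3, 4, 3, 4, 3])) (.leaf 58 5 [2, 1, 3, 2, 1, 5, 3, 2, 1, 3])) (.node 68 (.node 67 (.leaf 58 1 [3, 2, 1, 3, 2, 1, 3, 2, 1,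 5]) (.leaf 59 6 [3, 4, 3, 4, 3, 1, 4, 3, 4, 3, 4])) (.leaf 59 10 [3, 1, 4, 3, 4, 3, 4, 3, 4, 3, 4]))) (.node 73 (.node 71 (.node 70 (.leaf 59 0 [1, 4, 3, 4, 3, 4, 3, 4, 3, 4, 3]) (.leaf 58 8 [2, 1, 5, 3, 2, 1, 3, 2, 1, 3])) (.node 72 (.leaf 59 7 [4, 3, 4, 3, 1, 4, 3, 4, 3, 4, 3]) (.leaf 58 4 [3, 2, 1, 3, 2, 1, 5, 3, 2, 1]))) (.node 76 (.node 75 (.node 74 (.leaf 49 1 [7, 6, 7, 6, 7, 6, 7, 6]) (.leaf 59 5 [4, 3, 4, 3, 4, 3, 1, 4, 3, 4, 3])) (.leaf 61 2 [1, 2, 9, 1, 2])) (.node 78 (.node 77 (.leaf 62 23 [5, 2, 3, 4, 5, 11, 2, 3, 4, 5, 2, 3, 4, 5, 2, 3, 4, 5, 2, 3, 4, 5, 2, 3, 4, 5, 2, 3, 4]) (.leaf 58 7 [3, 2, 1, 5, 3, 2, 1, 3, 2, 1])) (.leaf 25 0 [3, 4, 3, 4, 3, 4, 3, 4, 3, 4, 3, 4, 3, 4, 3, 4, 3, 4, 3, 4]))))))))))))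


end Cfsg.Agent.Lib.Helper11.He2058
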